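import Mathlib

/-!
A binomial coefficient has a prime divisor above the index or above the square root.
-/

set_option autoImplicit false

namespace Cfsg.Agent.Block.AltDerange

/-- The primes up to `s`. -/
def primesUpTo (s : ℕ) : Finset ℕ := (Finset.range (s + 1)).filter Nat.Prime

theorem two_mul_card_primesUpTo : ∀ s, 8 ≤ s → 2 * (primesUpTo s).card ≤ s
  | 0, h => absurd h (by norm_num)
  | 1, h => absurd h (by norm_num)
  | s + 2, h => by
    rcases Nat.lt_or_ge s 8 with h8 | h8
    · have h6 : s = 6 ∨ s = 7 := by omega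
      rcases h6 with rfl | rfl <;> decide +kernel
    · have ih := two_mul_card_primesUpTo s h8
      have hsub : primesUpTo (s + 2) ⊆ insert (if s % 2 = 0 then s + 1 else s + 2) (primesUpTo s) := by
        intro p hp
        simp only [primesUpTo, Finset.mem_filter, Finset.mem_range, Finset.mem_insert] at hp ⊢
        by_cases hps : p < s + 1
        · exact Or.inr ⟨hps, hp.2⟩
        · rcases hp.2.eq_two_or_odd with e | e
          · omega
          · left; split_ifs <;> omega
      have := (Finset.card_le_card hsub).trans (Finset.card_insert_le _ _)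
      omega

theorem choose_le_pow {m k s : ℕ} (hm : 0 < m) (hkm : k ≤ m)
    (hall : ∀ p : ℕ, p.Prime → p ∣ m.choose k → p ≤ s) :
    m.choose k ≤ m ^ (primesUpTo s).card := by
  calc m.choose k = ∏ p ∈ (m.choose k).primeFactors, p ^ (m.choose k).factorization p :=
        (Nat.prod_factorization_pow_eq_self (Nat.choose_pos hkm).ne').symm
    _ ≤ m ^ (m.choose k).primeFactors.card :=
        Finset.prod_le_pow_card _ _ _ fun p _ => Nat.pow_factorization_choose_le hm
    _ ≤ m ^ (primesUpTo s).card := Nat.pow_le_pow_right hm (Finset.card_le_card fun p hp => by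
        rw [Nat.mem_primeFactors] at hp
        simp only [primesUpTo, Finset.mem_filter, Finset.mem_range]
        exact ⟨Nat.lt_succ_of_le (hall p hp.1 hp.2.1), hp.1⟩)

theorem pow_step (s : ℕ) : ∀ j, s ^ j * (s + j) ≤ (s + 1) ^ j * s
  | 0 => by simp
  | j + 1 => by
    have h1 : s * (s + j + 1) ≤ (s + j) * (s + 1) := by nlinarith
    calc s ^ (j + 1) * (s + (j + 1)) = s ^ j * (s * (s + j + 1)) := by ring
      _ ≤ s ^ j * ((s + j) * (s + 1)) := Nat.mul_le_mul_left _ h1
      _ = (s ^ j * (s + j)) * (s + 1) := by ring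
      _ ≤ ((s + 1) ^ j * s) * (s + 1) := Nat.mul_le_mul_right _ (pow_step s j)
      _ = (s + 1) ^ (j + 1) * s := by ring

theorem factorial_mul_two_pow : ∀ s, 6 ≤ s → s.factorial * 2 ^ s ≤ s ^ s
  | 0, h => absurd h (by norm_num)
  | s + 1, h => by
    rcases Nat.lt_or_ge s 6 with h6 | h6
    · obtain rfl : s = 5 := by omega
      decide
    · have ih := factorial_mul_two_pow s h6
      have h2 : 2 * s ^ s ≤ (s + 1) ^ s := by
        refine Nat.le_of_mul_le_mul_right ?_ (show 0 < s by omega)
        calc 2 * s ^ s * s = s ^ s * (s + s) := by ring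
          _ ≤ _ := pow_step s s
      calc (s + 1).factorial * 2 ^ (s + 1) = (s + 1) * (2 * (s.factorial * 2 ^ s)) := by
            rw [Nat.factorial_succ]; ring
        _ ≤ (s + 1) * (2 * s ^ s) := by gcongr
        _ ≤ (s + 1) * (s + 1) ^ s := by gcongr
        _ = (s + 1) ^ (s + 1) := by ring

theorem choose_mono {m s : ℕ} : ∀ {k}, s ≤ k → 2 * k ≤ m → m.choose s ≤ m.choose k := by
  intro k hsk
  induction k, hsk using Nat.le_induction with
  | base => exact fun _ => le_rfl
  | succ k _ ih => exact fun h => (ih (by omega)).trans (Nat.choose_le_succ_of_lt_half_left (by omega))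

/-- The large range. -/
theorem exists_prime_big {m k s : ℕ} (hs8 : 8 ≤ s) (hs2 : s * s ≤ m) (hsk : s ≤ k) (hk : 2 * k ≤ m) :
    ∃ p : ℕ, p.Prime ∧ p ∣ m.choose k ∧ s < p := by
  by_contra hno
  push Not at hno
  have hup := choose_le_pow (show 0 < m by omega) (show k ≤ m by omega) hno
  have hlo := choose_mono hsk hk
  have h1 : (m + 1 - s) ^ s ≤ s.factorial * m.choose s := by
    rw [← Nat.descFactorial_eq_factorial_mul_choose]
    exact Nat.pow_sub_le_descFactorial m s
  have h2 : (2 * (m + 1 - s)) ^ s ≤ s ^ s * m.choose k := by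
    calc (2 * (m + 1 - s)) ^ s = 2 ^ s * (m + 1 - s) ^ s := mul_pow _ _ _
      _ ≤ 2 ^ s * (s.factorial * m.choose s) := Nat.mul_le_mul_left _ h1
      _ = (s.factorial * 2 ^ s) * m.choose s := by ring
      _ ≤ s ^ s * m.choose k := Nat.mul_le_mul (factorial_mul_two_pow s (by omega)) hlo
  have hm : m < 2 * (m + 1 - s) := by
    have : 8 * s ≤ s * s := Nat.mul_le_mul_right s hs8
    omega
  have h3 : (s * s * m) ^ s < ((2 * (m + 1 - s)) ^ s) ^ 2 := by
    rw [← pow_mul, mul_comm s 2, pow_mul]
    refine Nat.pow_lt_pow_left ?_ (by omega)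
    calc s * s * m ≤ m * m := Nat.mul_le_mul_right m hs2
      _ < (2 * (m + 1 - s)) * (2 * (m + 1 - s)) := Nat.mul_lt_mul'' hm hm
      _ = _ := (sq _).symm
  have h4 : (s ^ s * m.choose k) ^ 2 ≤ (s * s * m) ^ s := by
    calc (s ^ s * m.choose k) ^ 2 = (s * s) ^ s * m.choose k ^ 2 := by
          rw [mul_pow, mul_pow, ← pow_mul, ← pow_add]; congr 2; ring
      _ ≤ (s * s) ^ s * (m ^ (primesUpTo s).card) ^ 2 := by gcongr
      _ ≤ (s * s) ^ s * m ^ s := by
          rw [← pow_mul]
          gcongr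
          · nlinarith
          · have := two_mul_card_primesUpTo s hs8
            omega
      _ = _ := (mul_pow _ _ _).symm
  exact absurd (Nat.pow_le_pow_left h2 2) (not_le.2 (lt_of_le_of_lt h4 h3))

/-- A short index. -/
theorem exists_prime_short {m k : ℕ} (hm : 64 ≤ m) (hk1 : 1 ≤ k) (hk7 : k ≤ 7) :
    ∃ p : ℕ, p.Prime ∧ p ∣ m.choose k ∧ k < p := by
  by_contra hno
  push Not at hno
  have hup := choose_le_pow (show 0 < m by omega) (show k ≤ m by omega) hno
  have h1 : (m + 1 - k) ^ k ≤ k.factorial * m.choose k := by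
    rw [← Nat.descFactorial_eq_factorial_mul_choose]
    exact Nat.pow_sub_le_descFactorial m k
  have hpk : (primesUpTo k).card ≤ k := by interval_cases k <;> decide +kernel
  set c := (primesUpTo k).card with hc
  have h2 : 7 ^ k * m ^ k ≤ 8 ^ k * (k.factorial * m ^ c) := by
    calc 7 ^ k * m ^ k = (7 * m) ^ k := (mul_pow _ _ _).symm
      _ ≤ (8 * (m + 1 - k)) ^ k := Nat.pow_le_pow_left (by omega) k
      _ = 8 ^ k * (m + 1 - k) ^ k := mul_pow _ _ _
      _ ≤ 8 ^ k * (k.factorial * m ^ c) :=
        Nat.mul_le_mul_left _ (h1.trans (Nat.mul_le_mul_left _ hup))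
  have h3 : m ^ k = m ^ (k - c) * m ^ c := by rw [← pow_add]; congr 1; omega
  rw [h3, ← mul_assoc, ← mul_assoc] at h2
  have h4 := Nat.le_of_mul_le_mul_right h2 (pow_pos (by omega) c)
  have h5 : 7 ^ k * 64 ^ (k - c) ≤ 8 ^ k * k.factorial :=
    le_trans (Nat.mul_le_mul_left _ (Nat.pow_le_pow_left hm _)) h4
  revert h5
  rw [hc]
  interval_cases k <;> decide +kernel

/-- The small degrees. -/
theorem small_table : (List.range 64).all (fun m => (List.range 32).all fun k =>
    (decide (m < 5) || decide (k < 1) || decide (m < 2 * k)) ||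
      [2, 3, 5, 7, 11, 13, 17, 19, 23, 29, 31, 37, 41, 43, 47, 53, 59, 61].any fun p =>
        (m.descFactorial k % (p * k.factorial) == 0) && (decide (k < p) || decide (m < p * p))) =
    true := by
  decide +kernel

/-- A binomial coefficient has a prime divisor above the index or above the square root. -/
theorem exists_prime {m k : ℕ} (hm : 5 ≤ m) (hk1 : 1 ≤ k) (hk : 2 * k ≤ m) :
    ∃ p : ℕ, p.Prime ∧ p ∣ m.choose k ∧ (k < p ∨ m < p * p) := by
  rcases Nat.lt_or_ge m 64 with h | h
  · have ht := List.all_eq_true.1 (List.all_eq_true.1 small_table m (List.mem_range.2 h)) k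
      (List.mem_range.2 (by omega))
    simp only [Bool.or_eq_true, decide_eq_true_eq, List.any_eq_true, Bool.and_eq_true,
      beq_iff_eq] at ht
    obtain ⟨p, hp, hd, hor⟩ := ht.resolve_left (by omega)
    replace hd := Nat.dvd_of_mod_eq_zero hd
    refine ⟨p, ?_, ?_, hor⟩
    · fin_cases hp <;> norm_num
    · rw [Nat.descFactorial_eq_factorial_mul_choose, mul_comm p] at hd
      exact Nat.dvd_of_mul_dvd_mul_left k.factorial_pos hd
  rcases Nat.lt_or_ge k 8 with h8 | h8
  · obtain ⟨p, hp, hd, hor⟩ := exists_prime_short h hk1 (by omega)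
    exact ⟨p, hp, hd, Or.inl hor⟩
  have hsq : 8 ≤ Nat.sqrt m := Nat.le_sqrt.2 (by omega)
  obtain ⟨p, hp, hd, hor⟩ := exists_prime_big (s := min k (Nat.sqrt m)) (le_min h8 hsq)
    (le_trans (Nat.mul_le_mul (min_le_right _ _) (min_le_right _ _)) (Nat.sqrt_le m))
    (min_le_left _ _) hk
  refine ⟨p, hp, hd, ?_⟩
  rcases min_lt_iff.1 hor with h' | h'
  · exact Or.inl h'
  · exact Or.inr (Nat.sqrt_lt.1 h')

end Cfsg.Agent.Block.AltDerange
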