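import Mathlib
import Cfsg.Agent.Lib.Transfer.JordanPrimeCycle
import Cfsg.Agent.Lib.Block.AltDerange.Binom

/-!
A maximal subgroup not containing the alternating group misses an even permutation of order `r`, when
`r` is the largest prime divisor of the index.
-/

set_option autoImplicit false

namespace Cfsg.Agent.Block.AltDerange

open Equiv Equiv.Perm MulAction
open scoped Pointwise

variable {m : ℕ}

/-- An even permutation of order `r` not conjugate into `M` inside the alternating group. -/
def Avoids (M : Subgroup (Perm (Fin m))) (r : ℕ) : Prop :=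
  ∃ σ ∈ alternatingGroup (Fin m), orderOf σ = r ∧
    ∀ a ∈ alternatingGroup (Fin m), a * σ * a⁻¹ ∉ M

theorem avoids_of_not_dvd {M : Subgroup (Perm (Fin m))} {r : ℕ} (hr : r.Prime)
    (hA : r ∣ Nat.card (alternatingGroup (Fin m)))
    (hM : ¬ r ∣ Nat.card (M ⊓ alternatingGroup (Fin m) : Subgroup (Perm (Fin m)))) : Avoids M r := by
  haveI := Fact.mk hr
  obtain ⟨σ, hσ⟩ := exists_prime_orderOf_dvd_card' r hA
  refine ⟨σ, σ.2, by rw [Subgroup.orderOf_coe, hσ], fun a ha h => hM ?_⟩
  rw [← hσ, ← Subgroup.orderOf_coe σ,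
    ← (MulAut.conj a).orderOf_eq (σ : Perm (Fin m)), MulAut.conj_apply]
  exact Subgroup.orderOf_dvd_natCard _ ⟨h, (alternatingGroup (Fin m)).mul_mem
    ((alternatingGroup (Fin m)).mul_mem ha σ.2) ((alternatingGroup (Fin m)).inv_mem ha)⟩

theorem two_mul_card_alt (hm : 2 ≤ m) : 2 * Nat.card (alternatingGroup (Fin m)) = m.factorial := by
  haveI : Nontrivial (Fin m) := Fintype.one_lt_card_iff_nontrivial.1 (by rw [Fintype.card_fin]; omega)
  rw [two_mul_nat_card_alternatingGroup, Nat.card_perm, Nat.card_fin]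

theorem dvd_card_alt (hm : 4 ≤ m) {p : ℕ} (hp : p.Prime) (hpm : p ≤ m) :
    p ∣ Nat.card (alternatingGroup (Fin m)) := by
  rcases hp.eq_two_or_odd with rfl | h
  · have h1 : 24 ∣ m.factorial := Nat.factorial_dvd_factorial (show 4 ≤ m from hm)
    rw [← two_mul_card_alt (show 2 ≤ m by omega)] at h1
    omega
  · have h1 : p ∣ m.factorial := hp.dvd_factorial.2 hpm
    rw [← two_mul_card_alt (show 2 ≤ m by omega)] at h1
    exact (hp.dvd_mul.1 h1).resolve_left fun h2 => by
      rw [(Nat.prime_dvd_prime_iff_eq hp Nat.prime_two).1 h2] at h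
      norm_num at h

/-- A prime above `m / 2` divides the factorial once. -/
theorem sq_not_dvd (hm : 2 ≤ m) {p : ℕ} (hp : p.Prime) (hbig : m < 2 * p) :
    ¬ p ^ 2 ∣ Nat.card (alternatingGroup (Fin m)) := by
  intro h
  have h1 : p ^ 2 ∣ m.factorial := two_mul_card_alt hm ▸ h.mul_left 2
  rw [hp.pow_dvd_factorial_iff (b := Nat.log p m + 1) (Nat.lt_succ_self _)] at h1
  have h2 : ∀ i ∈ Finset.Ico 1 (Nat.log p m + 1), m / p ^ i ≤ if i = 1 then 1 else 0 := by
    intro i hi
    rw [Finset.mem_Ico] at hi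
    split_ifs with h
    · subst h
      rw [pow_one]
      exact Nat.le_of_lt_succ ((Nat.div_lt_iff_lt_mul hp.pos).2 (by omega))
    · rw [Nat.le_zero, Nat.div_eq_zero_iff]
      have : p * 2 ≤ p ^ i := by
        calc p * 2 ≤ p * p := Nat.mul_le_mul_left p hp.two_le
          _ = p ^ 2 := (sq p).symm
          _ ≤ p ^ i := Nat.pow_le_pow_right hp.pos (by omega)
      omega
  have h3 := h1.trans (Finset.sum_le_sum h2)
  rw [Finset.sum_ite_eq' (Finset.Ico 1 (Nat.log p m + 1)) 1 fun _ => 1] at h3
  split_ifs at h3 <;> omega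

theorem not_dvd_of_dvd_index (hm : 2 ≤ m) {p n : ℕ} (hp : p.Prime) (hbig : m < 2 * p) (hpn : p ∣ n) {H : ℕ}
    (hn : n * H = Nat.card (alternatingGroup (Fin m))) : ¬ p ∣ H := fun h =>
  sq_not_dvd hm hp hbig (hn ▸ sq p ▸ Nat.mul_dvd_mul hpn h)

/-- Elements of prime order above `m / 2` preserve no proper block system of a transitive group. -/
theorem not_dvd_of_block {M : Subgroup (Perm (Fin m))} (htr : IsPretransitive M (Fin m)) {B : Set (Fin m)}
    (hB : IsBlock M B) (hB2 : 2 ≤ B.ncard) (hBm : B.ncard < m) {q : ℕ} (hq : q.Prime) (hbig : m < 2 * q) :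
    ¬ q ∣ Nat.card M := by
  classical
  intro hd
  haveI := Fact.mk hq
  haveI := htr
  obtain ⟨g, hg⟩ := exists_prime_orderOf_dvd_card' q hd
  have hne : B.Nonempty := Set.nonempty_of_ncard_ne_zero (by omega)
  have hmul := hB.ncard_block_mul_ncard_orbit_eq hne
  rw [Nat.card_fin] at hmul
  set b := (orbit M B).ncard with hb
  have hbm : b < q := by
    by_contra h
    push Not at h
    have : 2 * q ≤ B.ncard * b := Nat.mul_le_mul hB2 h
    omega
  have hB' : B.ncard < q := by
    by_contra h
    push Not at h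
    have h0 : 2 ≤ b := by
      by_contra hb2
      push Not at hb2
      interval_cases b <;> omega
    have : q * 2 ≤ B.ncard * b := Nat.mul_le_mul h h0
    omega
  have hfix : MulAction.toPermHom M (orbit M B) g = 1 := by
    rw [← orderOf_eq_one_iff]
    have h1 : orderOf (MulAction.toPermHom M (orbit M B) g) ∣ q := hg ▸ orderOf_map_dvd _ g
    refine ((Nat.dvd_prime hq).1 h1).resolve_right fun e => ?_
    have h2 := orderOf_dvd_natCard (MulAction.toPermHom M (orbit M B) g)
    rw [e, Nat.card_perm, Nat.card_coe_set_eq, Nat.Prime.dvd_factorial hq] at h2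
    omega
  obtain ⟨x, hx⟩ : ∃ x : Fin m, (g : Perm (Fin m)) x ≠ x := by
    by_contra h
    push Not at h
    have : g = 1 := Subtype.ext (Equiv.ext h)
    rw [this, orderOf_one] at hg
    exact hq.one_lt.ne hg
  obtain ⟨y, hy⟩ := hne
  obtain ⟨k, hk⟩ := exists_smul_eq M y x
  have hstab : ∀ i : ℕ, (g ^ i) • (k • B) = k • B := by
    intro i
    have h1 := congrArg Subtype.val (DFunLike.congr_fun (show MulAction.toPermHom M (orbit M B) (g ^ i) = 1 by
      rw [map_pow, hfix, one_pow]) ⟨k • B, mem_orbit B k⟩)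
    simpa using h1
  have hsub : Set.range (fun i : Fin q => ((g : Perm (Fin m)) ^ (i : ℕ)) x) ⊆ k • B := by
    rintro _ ⟨i, rfl⟩
    rw [← hstab i]
    exact ⟨x, hk ▸ Set.smul_mem_smul_set hy, rfl⟩
  have hinj : Function.Injective (fun i : Fin q => ((g : Perm (Fin m)) ^ (i : ℕ)) x) := by
    have hcyc : (g : Perm (Fin m)).IsCycle := Equiv.Perm.isCycle_of_prime_order' (by rw [Subgroup.orderOf_coe, hg]; exact hq)
      (by rw [Fintype.card_fin, Subgroup.orderOf_coe, hg]; omega)
    intro i j hij
    have ho : orderOf (g : Perm (Fin m)) = q := by rw [Subgroup.orderOf_coe, hg]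
    have h1 : (g : Perm (Fin m)) ^ (i : ℕ) = (g : Perm (Fin m)) ^ (j : ℕ) :=
      hcyc.pow_eq_pow_iff.2 ⟨x, hx, hij⟩
    refine Fin.ext (Nat.ModEq.eq_of_lt_of_lt (pow_eq_pow_iff_modEq.1 h1) ?_ ?_) <;> rw [ho]
    · exact i.2
    · exact j.2
  have h3 := Set.ncard_le_ncard hsub (Set.toFinite _)
  rw [Set.ncard_range_of_injective hinj, Nat.card_fin, Set.ncard_smul_set] at h3
  omega

/-- A permutation all whose cycles have prime length `r` meets an invariant set in a controlled size. -/
theorem card_mod_of_invariant {σ : Perm (Fin m)} {r : ℕ} (hr : r.Prime) {j : ℕ}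
    (hσ : σ.cycleType = Multiset.replicate j r) (s : Finset (Fin m)) (hs : ∀ x, σ x ∈ s ↔ x ∈ s)
    (hf : m - j * r < r) : s.card % r ≤ m - j * r := by
  classical
  haveI := Fact.mk hr
  set τ : Perm {x // x ∈ s} := σ.subtypePerm hs with hτ
  have hτr : τ ^ r = 1 := by
    ext x
    have h0 : σ ^ r = 1 := by
      rw [← orderOf_dvd_iff_pow_eq_one, ← Equiv.Perm.lcm_cycleType, hσ]
      exact Multiset.lcm_dvd.2 fun b hb => (Multiset.eq_of_mem_replicate hb) ▸ dvd_rfl
    simp [hτ, Equiv.Perm.subtypePerm_pow, h0]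
  have hdvd : r ∣ τ.support.card := by
    rw [← Equiv.Perm.sum_cycleType]
    refine Multiset.dvd_sum fun b hb => ?_
    have h1 : b ∣ r := (Equiv.Perm.dvd_of_mem_cycleType hb).trans (orderOf_dvd_of_pow_eq_one hτr)
    rcases (Nat.dvd_prime hr).1 h1 with h | h
    · have := Equiv.Perm.two_le_of_mem_cycleType hb
      omega
    · rw [h]
  have hfix : τ.supportᶜ.card ≤ m - j * r := by
    have h1 : σ.support.card = j * r := by
      rw [← Equiv.Perm.sum_cycleType, hσ, Multiset.sum_replicate, smul_eq_mul]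
    have h2 : (τ.supportᶜ.map (Function.Embedding.subtype _)) ⊆ σ.supportᶜ := by
      intro x hx
      obtain ⟨y, hy, rfl⟩ := Finset.mem_map.1 hx
      simp only [Finset.mem_compl, Equiv.Perm.mem_support, ne_eq, not_not] at hy ⊢
      exact congrArg Subtype.val hy
    have h3 := Finset.card_le_card h2
    rwa [Finset.card_map, Finset.card_compl σ.support, Fintype.card_fin, h1] at h3
  have hsum : s.card = τ.support.card + τ.supportᶜ.card := by
    rw [Finset.card_add_card_compl, Fintype.card_coe]
  obtain ⟨t, ht⟩ := hdvd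
  rw [hsum, ht, Nat.mul_add_mod]
  exact (Nat.mod_le _ _).trans hfix

/-- The intransitive case: `n` is the binomial coefficient. -/
theorem avoids_of_set (hm : 5 ≤ m) {M : Subgroup (Perm (Fin m))} (s : Finset (Fin m))
    (hs1 : 1 ≤ s.card) (hs2 : s.card < m)
    (hMs : ∀ g ∈ M, ∀ x, g x ∈ s ↔ x ∈ s) {r : ℕ} (hr : r.Prime) (hrd : r ∣ m.choose s.card)
    (hmax : ∀ p : ℕ, p.Prime → p ∣ m.choose s.card → p ≤ r) : Avoids M r := by
  classical
  haveI := Fact.mk hr
  set k := s.card with hk
  have hkm : k ≤ m := by simpa [Fintype.card_fin] using Finset.card_le_univ s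
  -- the largest prime exceeds the index or the square root
  have hbig : k < r ∨ m - k < r ∨ m < r * r := by
    rcases Nat.lt_or_ge m (2 * k) with h | h
    · obtain ⟨p, hp, hd, hor⟩ := exists_prime hm (show 1 ≤ m - k by omega) (by omega)
      rw [Nat.choose_symm hkm] at hd
      have hpr := hmax p hp hd
      rcases hor with h' | h'
      · exact Or.inr (Or.inl (by omega))
      · exact Or.inr (Or.inr (lt_of_lt_of_le h' (Nat.mul_le_mul hpr hpr)))
    · obtain ⟨p, hp, hd, hor⟩ := exists_prime hm hs1 h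
      have hpr := hmax p hp hd
      rcases hor with h' | h'
      · exact Or.inl (by omega)
      · exact Or.inr (Or.inr (lt_of_lt_of_le h' (Nat.mul_le_mul hpr hpr)))
  -- the residue condition
  have hmod : m % r < k % r := by
    by_contra hle
    push Not at hle
    have h := Choose.choose_modEq_choose_mod_mul_choose_div_nat (p := r) (n := m) (k := k)
    have h0 : r ∣ (m % r).choose (k % r) * (m / r).choose (k / r) :=
      Nat.modEq_zero_iff_dvd.1 (h.symm.trans (Nat.modEq_zero_iff_dvd.2 hrd))
    have hdiv : k / r ≤ m / r := Nat.div_le_div_right hkm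
    have hsmall : ∀ a b : ℕ, a < r → b ≤ a → ¬ r ∣ a.choose b := fun a b ha hb hd => by
      have h1 : r ∣ a.factorial := by
        rw [← Nat.choose_mul_factorial_mul_factorial hb, mul_assoc]
        exact hd.mul_right _
      exact absurd (hr.dvd_factorial.1 h1) (by omega)
    rcases hr.dvd_mul.1 h0 with h1 | h1
    · exact hsmall _ _ (Nat.mod_lt m hr.pos) hle h1
    · have e1 := Nat.div_add_mod m r
      have e2 := Nat.div_add_mod k r
      rcases hbig with hb | hb | hb
      · rw [Nat.div_eq_of_lt hb, Nat.choose_zero_right, Nat.dvd_one] at h1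
        exact hr.one_lt.ne' h1
      · have e3 : k / r = m / r := by
          by_contra hne
          have : r * (k / r + 1) ≤ r * (m / r) := Nat.mul_le_mul_left r (by omega)
          rw [mul_add, mul_one] at this
          omega
        rw [e3, Nat.choose_self, Nat.dvd_one] at h1
        exact hr.one_lt.ne' h1
      · exact hsmall _ _ ((Nat.div_lt_iff_lt_mul hr.pos).2 hb) hdiv h1
  -- when `r = 2` the number of transpositions is even
  have heven : r = 2 → Even (m / r) := by
    rintro rfl
    have hk1 : m.choose k = m := by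
      rcases hbig with h | h | h
      · rw [show k = 1 by omega, Nat.choose_one_right]
      · rw [← Nat.choose_symm hkm, show m - k = 1 by omega, Nat.choose_one_right]
      · omega
    obtain ⟨a, ha⟩ : ∃ a, m = 2 ^ a :=
      ⟨_, Nat.eq_prime_pow_of_unique_prime_dvd (by omega) fun {q} hq hd =>
        le_antisymm (hmax q hq (hk1.symm ▸ hd)) hq.two_le⟩
    have ha2 : 2 ≤ a := by
      by_contra h
      interval_cases a <;> omega
    obtain ⟨b, rfl⟩ : ∃ b, a = b + 2 := ⟨a - 2, by omega⟩
    rw [ha, pow_succ, pow_succ, Nat.mul_div_cancel _ (by norm_num)]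
    exact ⟨2 ^ b, by ring⟩
  obtain ⟨σ, hσ⟩ : ∃ σ : Perm (Fin m), σ.cycleType = Multiset.replicate (m / r) r := by
    refine (Equiv.Perm.exists_with_cycleType_iff _).2 ⟨?_, fun a ha => ?_⟩
    · rw [Multiset.sum_replicate, smul_eq_mul, Fintype.card_fin]
      exact Nat.div_mul_le_self m r
    · rw [Multiset.eq_of_mem_replicate ha]; exact hr.two_le
  have hsign : σ ∈ alternatingGroup (Fin m) := by
    rw [mem_alternatingGroup, sign_of_cycleType, hσ, Multiset.sum_replicate, Multiset.card_replicate, smul_eq_mul]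
    refine Even.neg_one_pow ?_
    rcases hr.eq_two_or_odd with h2 | h2
    · exact Nat.even_add.2 ⟨fun _ => heven h2, fun h => h.mul_right r⟩
    · rw [Nat.even_add, Nat.even_mul]
      exact ⟨fun h => h.resolve_right (by rw [Nat.not_even_iff]; exact h2), fun h => Or.inl h⟩
  have hrm : 1 ≤ m / r := by
    refine (Nat.one_le_div_iff hr.pos).2 ?_
    by_contra hlt
    have := Nat.mod_eq_of_lt (show m < r by omega)
    have := Nat.mod_le k r
    omega
  refine ⟨σ, hsign, ?_, fun a ha h => ?_⟩
  · rw [← Equiv.Perm.lcm_cycleType, hσ]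
    refine Nat.dvd_antisymm (Multiset.lcm_dvd.2 fun b hb => (Multiset.eq_of_mem_replicate hb).dvd) ?_
    exact Multiset.dvd_lcm (Multiset.mem_replicate.2 ⟨by omega, rfl⟩)
  · have h1 := card_mod_of_invariant hr (σ := a * σ * a⁻¹) (j := m / r)
      (by rw [cycleType_conj, hσ]) s (hMs _ h)
      (by have := Nat.div_add_mod' m r; have := Nat.mod_lt m hr.pos; omega)
    have h2 := Nat.div_add_mod' m r
    rw [← hk] at h1
    omega

/-- The set stabiliser in the alternating group. -/
theorem card_stabilizer_set (hm : 5 ≤ m) (s : Finset (Fin m)) :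
    m.choose s.card * Nat.card (stabilizer (Perm (Fin m)) s ⊓ alternatingGroup (Fin m) :
      Subgroup (Perm (Fin m))) = Nat.card (alternatingGroup (Fin m)) := by
  classical
  have horb : orbit (alternatingGroup (Fin m)) s = {t : Finset (Fin m) | t.card = s.card} := by
    ext t
    constructor
    · rintro ⟨a, rfl⟩
      exact Finset.card_smul_finset (a : Perm (Fin m)) s
    · intro ht
      set σ : Perm (Fin m) := (Finset.equivOfCardEq (ht : t.card = s.card).symm).extendSubtype with hσ
      have hσs : σ • s = t := Finset.eq_of_subset_of_card_le (fun y hy => by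
        obtain ⟨z, hz, rfl⟩ := Finset.mem_smul_finset.1 hy
        exact Equiv.extendSubtype_mem _ z hz) (by rw [Finset.card_smul_finset]; exact ht.le)
      rcases Int.units_eq_one_or (sign σ) with h | h
      · exact ⟨⟨σ, mem_alternatingGroup.2 h⟩, hσs⟩
      · obtain ⟨a, b, hab, habs⟩ : ∃ a b : Fin m, a ≠ b ∧ (a ∈ s ↔ b ∈ s) := by
          rcases Nat.lt_or_ge 1 s.card with h' | h'
          · obtain ⟨a, b, ha, hb, hab⟩ := Finset.one_lt_card_iff.1 h'
            exact ⟨a, b, hab, by simp [ha, hb]⟩
          · obtain ⟨a, b, ha, hb, hab⟩ := Finset.one_lt_card_iff.1 (show 1 < sᶜ.card by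
              rw [Finset.card_compl, Fintype.card_fin]; omega)
            rw [Finset.mem_compl] at ha hb
            exact ⟨a, b, hab, by simp [ha, hb]⟩
        refine ⟨⟨σ * swap a b, mem_alternatingGroup.2 (by rw [map_mul, h, sign_swap hab]; rfl)⟩, ?_⟩
        show (σ * swap a b) • s = t
        rw [mul_smul, show swap a b • s = s from ?_, hσs]
        refine Finset.eq_of_subset_of_card_le (fun y hy => ?_) (by rw [Finset.card_smul_finset])
        obtain ⟨z, hz, rfl⟩ := Finset.mem_smul_finset.1 hy
        rw [Perm.smul_def, swap_apply_def]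
        split_ifs with h1 h2
        · exact habs.1 (h1 ▸ hz)
        · exact habs.2 (h2 ▸ hz)
        · exact hz
  have hcard : Nat.card (orbit (alternatingGroup (Fin m)) s) = m.choose s.card := by
    rw [horb, Set.coe_setOf, Nat.card_eq_fintype_card, Fintype.card_finset_len, Fintype.card_fin]
  have hst : Nat.card (stabilizer (alternatingGroup (Fin m)) s) =
      Nat.card (stabilizer (Perm (Fin m)) s ⊓ alternatingGroup (Fin m) :
        Subgroup (Perm (Fin m))) := by
    exact Nat.card_congr
      { toFun := fun a => ⟨((a : alternatingGroup (Fin m)) : Perm (Fin m)), a.2, a.1.2⟩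
        invFun := fun a => ⟨⟨a.1, a.2.2⟩, a.2.1⟩
        left_inv := fun _ => rfl
        right_inv := fun _ => rfl }
  rw [← hcard, ← hst, ← (stabilizer (alternatingGroup (Fin m)) s).index_mul_card,
    MulAction.index_stabilizer]
  rw [Nat.card_coe_set_eq]

/-- The primitive case. -/
theorem avoids_of_primitive (hm : 5 ≤ m) {M : Subgroup (Perm (Fin m))} (hprim : IsPreprimitive M (Fin m))
    (hA : ¬ alternatingGroup (Fin m) ≤ M) {r n : ℕ} (hr : r.Prime) (hrn : r ∣ n)
    (hn : n * Nat.card (M ⊓ alternatingGroup (Fin m) : Subgroup (Perm (Fin m))) =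
      Nat.card (alternatingGroup (Fin m)))
    (hmax : ∀ p : ℕ, p.Prime → p ∣ n → p ≤ r) : Avoids M r := by
  classical
  have hrA : r ∣ Nat.card (alternatingGroup (Fin m)) := hn ▸ hrn.mul_right _
  by_cases hbig : m < 2 * r
  · exact avoids_of_not_dvd hr hrA (not_dvd_of_dvd_index (by omega) hr hbig hrn hn)
  rcases hr.eq_two_or_odd with rfl | hodd
  · -- the Sylow 3-subgroup of the intersection is one of the alternating group
    exfalso
    haveI : Fact (Nat.Prime 3) := ⟨Nat.prime_three⟩
    have h3 : ¬ 3 ∣ n := fun h => absurd (hmax 3 Nat.prime_three h) (by norm_num)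
    set H := M ⊓ alternatingGroup (Fin m)
    obtain ⟨S⟩ : Nonempty (Sylow 3 (alternatingGroup (Fin m))) := inferInstance
    obtain ⟨R⟩ : Nonempty (Sylow 3 H) := inferInstance
    have hle : H ≤ alternatingGroup (Fin m) := inf_le_right
    have hc : Nat.card ((R : Subgroup H).map (Subgroup.inclusion hle)) =
        3 ^ (Nat.card (alternatingGroup (Fin m))).factorization 3 := by
      rw [Subgroup.card_map_of_injective (Subgroup.inclusion_injective hle), R.card_eq_multiplicity, ← hn,
        Nat.factorization_mul (fun e => by rw [e] at h3; exact h3 (dvd_zero 3)) Nat.card_pos.ne', Finsupp.add_apply,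
        Nat.factorization_eq_zero_of_not_dvd h3, zero_add]
    obtain ⟨σ, hσ⟩ : ∃ σ : Perm (Fin m), σ.cycleType = Multiset.replicate 1 3 :=
      (Equiv.Perm.exists_with_cycleType_iff _).2 ⟨by simp; omega, fun a ha => by
        rw [Multiset.eq_of_mem_replicate ha]; norm_num⟩
    have h3c : σ.IsThreeCycle := by rw [IsThreeCycle, hσ]; rfl
    obtain ⟨T, hT⟩ := (IsPGroup.of_card (n := 1) (by
      rw [Nat.card_zpowers, pow_one, ← Subgroup.orderOf_coe]; exact h3c.orderOf) :
      IsPGroup 3 (Subgroup.zpowers (⟨σ, h3c.sign⟩ : alternatingGroup (Fin m)))).exists_le_sylow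
    obtain ⟨g, hg⟩ := MulAction.exists_smul_eq (alternatingGroup (Fin m)) T (Sylow.ofCard _ hc)
    have hmem : g * ⟨σ, h3c.sign⟩ * g⁻¹ ∈ (R : Subgroup H).map (Subgroup.inclusion hle) := by
      rw [← Sylow.coe_ofCard _ hc, ← hg, Sylow.coe_subgroup_smul]
      exact ⟨⟨σ, h3c.sign⟩, hT (Subgroup.mem_zpowers _), rfl⟩
    obtain ⟨x, -, hx⟩ := hmem
    refine hA (alternatingGroup_le_of_isPreprimitive_of_isThreeCycle_mem hprim (g := (g : Perm (Fin m)) * σ * (g : Perm (Fin m))⁻¹)
      (by rw [IsThreeCycle, cycleType_conj]; exact h3c) ?_)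
    have h2 := congrArg Subtype.val hx
    simp only [Subgroup.coe_inclusion, Subgroup.coe_mul, Subgroup.coe_inv] at h2
    rw [← h2]
    exact x.2.1
  · obtain ⟨σ, hσ⟩ : ∃ σ : Perm (Fin m), σ.cycleType = Multiset.replicate 1 r :=
      (Equiv.Perm.exists_with_cycleType_iff _).2 ⟨by simp; omega, fun a ha => by
        rw [Multiset.eq_of_mem_replicate ha]; exact hr.two_le⟩
    refine ⟨σ, ?_, ?_, fun a _ h => ?_⟩
    · rw [mem_alternatingGroup, sign_of_cycleType, hσ, Multiset.sum_replicate, Multiset.card_replicate, one_smul]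
      exact Even.neg_one_pow (Nat.even_iff.2 (by omega))
    · rw [← Equiv.Perm.lcm_cycleType, hσ]; simp
    · have hct : (a * σ * a⁻¹).cycleType = {r} := by rw [cycleType_conj, hσ]; rfl
      refine hA (Transfer.JordanPrimeCycle.alternatingGroup_le_of_cycle hprim hr (by rw [Fintype.card_fin]; omega)
        (g := a * σ * a⁻¹) ?_ ?_ h)
      · rw [← Equiv.Perm.card_cycleType_eq_one, hct, Multiset.card_singleton]
      · rw [← Equiv.Perm.sum_cycleType, hct, Multiset.sum_singleton]

/-- All maximal subgroups not containing the alternating group. -/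
theorem avoids (hm : 5 ≤ m) {L M : Subgroup (Perm (Fin m))} (hAL : alternatingGroup (Fin m) ≤ L) (hML : M ≤ L)
    (hmaxM : ∀ K, M ≤ K → K ≤ L → K = M ∨ K = L)
    (hA : ¬ alternatingGroup (Fin m) ≤ M) {r n : ℕ} (hr : r.Prime) (hrn : r ∣ n)
    (hn : n * Nat.card (M ⊓ alternatingGroup (Fin m) : Subgroup (Perm (Fin m))) =
      Nat.card (alternatingGroup (Fin m)))
    (hmax : ∀ p : ℕ, p.Prime → p ∣ n → p ≤ r) : Avoids M r := by
  classical
  by_cases htr : IsPretransitive M (Fin m)
  · by_cases hprim : IsPreprimitive M (Fin m)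
    · exact avoids_of_primitive hm hprim hA hr hrn hn hmax
    obtain ⟨B, hB, hB2, hBm⟩ : ∃ B : Set (Fin m), IsBlock M B ∧ 2 ≤ B.ncard ∧ B.ncard < m := by
      by_contra hno
      push Not at hno
      refine hprim ?_
      haveI := htr
      refine ⟨fun {B} hB => ?_⟩
      by_cases h2 : 2 ≤ B.ncard
      · right
        refine Set.eq_of_subset_of_ncard_le (Set.subset_univ B) ?_ (Set.toFinite _)
        rw [Set.ncard_univ, Nat.card_fin]
        exact hno B hB h2
      · left
        exact Set.ncard_le_one_iff_subsingleton.1 (by omega)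
    obtain ⟨q, hq, hq1, hq2⟩ := Nat.exists_prime_lt_and_le_two_mul (m / 2) (by omega)
    have hbig : ∀ p : ℕ, p.Prime → m < 2 * p →
        ¬ p ∣ Nat.card (M ⊓ alternatingGroup (Fin m) : Subgroup (Perm (Fin m))) := fun p hp hpb h =>
      not_dvd_of_block htr hB hB2 hBm hp hpb (h.trans (Subgroup.card_dvd_of_le inf_le_left))
    have hqn : q ∣ n := by
      have := dvd_card_alt (show 4 ≤ m by omega) hq (by omega)
      rw [← hn] at this
      exact (hq.dvd_mul.1 this).resolve_right (hbig q hq (by omega))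
    have hrq := hmax q hq hqn
    exact avoids_of_not_dvd hr (hn ▸ hrn.mul_right _) (hbig r hr (by omega))
  · -- an orbit gives an invariant set
    haveI : Nonempty (Fin m) := ⟨⟨0, by omega⟩⟩
    obtain ⟨x⟩ : Nonempty (Fin m) := inferInstance
    set s : Finset (Fin m) := Finset.univ.filter fun y => y ∈ orbit M x with hs
    have hMs : ∀ g ∈ M, ∀ y, g y ∈ s ↔ y ∈ s := by
      intro g hg y
      simp only [hs, Finset.mem_filter, Finset.mem_univ, true_and]
      rw [← orbit_eq_iff, ← orbit_eq_iff, ← MulAction.orbit_smul (⟨g, hg⟩ : M) y]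
      rfl
    have hxs : x ∈ s := by simp [hs]
    obtain ⟨y, hy⟩ : ∃ y, y ∉ s := by
      by_contra h
      push Not at h
      refine htr ⟨fun u v => ?_⟩
      have hu := h u
      have hv := h v
      simp only [hs, Finset.mem_filter, Finset.mem_univ, true_and] at hu hv
      obtain ⟨a, ha⟩ := hu
      obtain ⟨b, hb⟩ := hv
      exact ⟨b * a⁻¹, by rw [← ha, ← hb]; simp [mul_smul]⟩
    set K := stabilizer (Perm (Fin m)) s with hK
    have hmemK : ∀ g, g ∈ K ↔ ∀ z, g z ∈ s ↔ z ∈ s := by
      intro g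
      rw [hK, MulAction.mem_stabilizer_iff, Finset.ext_iff]
      constructor
      · intro h z
        rw [← h (g z)]
        exact Finset.smul_mem_smul_finset_iff g
      · intro h z
        rw [Finset.mem_smul_finset]
        exact ⟨fun ⟨w, hw, e⟩ => e ▸ (h w).2 hw, fun hz => ⟨g⁻¹ z, (h _).1 (by simpa using hz), by simp⟩⟩
    have hMK : M ≤ K ⊓ L := le_inf (fun g hg => (hmemK g).2 (hMs g hg)) hML
    have heq : K ⊓ L = M := by
      refine (hmaxM _ hMK inf_le_right).resolve_right fun e => ?_
      have hxy : x ≠ y := fun e' => hy (e' ▸ hxs)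
      obtain ⟨z, hzx, hzy⟩ : ∃ z : Fin m, z ≠ x ∧ z ≠ y := by
        obtain ⟨z, hz⟩ := Finset.card_pos.1 (show 0 < ({x, y} : Finset (Fin m))ᶜ.card by
          rw [Finset.card_compl, Finset.card_pair hxy, Fintype.card_fin]; omega)
        rw [Finset.mem_compl, Finset.mem_insert, Finset.mem_singleton] at hz
        push Not at hz
        exact ⟨z, hz.1, hz.2⟩
      have hg : swap x z * swap x y ∈ alternatingGroup (Fin m) := by
        rw [mem_alternatingGroup, map_mul, sign_swap hzx.symm, sign_swap hxy]; rfl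
      have hgK := hAL hg
      rw [← e] at hgK
      have h := ((hmemK _).1 hgK.1 x).2 hxs
      rw [Perm.mul_apply, swap_apply_left, swap_apply_of_ne_of_ne hxy.symm hzy.symm] at h
      exact hy h
    have hn' : n = m.choose s.card := by
      have h1 : K ⊓ alternatingGroup (Fin m) = M ⊓ alternatingGroup (Fin m) := by
        rw [← heq, inf_assoc, inf_eq_right.2 hAL]
      have h2 := card_stabilizer_set hm s
      rw [← hK, h1, ← hn] at h2
      exact (Nat.eq_of_mul_eq_mul_right Nat.card_pos h2).symm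
    exact avoids_of_set hm s (Finset.card_pos.2 ⟨x, hxs⟩)
      (by simpa [Fintype.card_fin] using Finset.card_lt_univ_of_notMem hy) hMs hr (hn' ▸ hrn)
      (hn' ▸ hmax)

end Cfsg.Agent.Block.AltDerange
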