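import Cfsg.Agent.Lib.Block.AltDerange.Avoid
import Cfsg.Agent.Lib.Alt.AutAlternating

/-!
An almost simple primitive group with alternating socle has a derangement of order the largest prime
divisor of the degree.
-/

set_option autoImplicit false
set_option linter.style.haveILetI false

namespace Cfsg.Agent.Block.AltDerange

open Equiv Equiv.Perm MulAction

theorem orderOf_conj_mk {X : Type*} [Group X] (K : Subgroup X) {a x : X} {n : ℕ}
    (h : a * x * a⁻¹ ∈ K) (hx : orderOf x = n) : orderOf (⟨a * x * a⁻¹, h⟩ : K) = n := by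
  rw [← hx, ← (MulAut.conj a).orderOf_eq x]
  exact (Subgroup.orderOf_coe _).symm

/-- Degree six. -/
theorem avoid_six (K : Subgroup (alternatingGroup (Fin 6))) (hK : K ≠ ⊤) {r : ℕ} (hr : r.Prime)
    (hrd : r ∣ K.index) (hmax : ∀ p : ℕ, p.Prime → p ∣ K.index → p ≤ r) :
    ∃ x : alternatingGroup (Fin 6), orderOf x = r ∧ ∀ a, a * x * a⁻¹ ∉ K := by
  classical
  haveI := Fact.mk hr
  have hcard : Nat.card (alternatingGroup (Fin 6)) = 360 := by
    have := two_mul_card_alt (m := 6) (by norm_num)
    rw [show Nat.factorial 6 = 720 from rfl] at this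
    omega
  have hmul : Nat.card K * K.index = 360 := by rw [K.card_mul_index, hcard]
  by_cases hrK : r ∣ Nat.card K
  swap
  · obtain ⟨x, hx⟩ := exists_prime_orderOf_dvd_card' (G := alternatingGroup (Fin 6)) r
      (hrd.trans K.index_dvd_card)
    refine ⟨x, hx, fun a h => hrK ?_⟩
    rw [← hx, ← (MulAut.conj a).orderOf_eq x, MulAut.conj_apply]
    exact Subgroup.orderOf_dvd_natCard _ h
  have hsq : r * r ∣ 360 := hmul ▸ Nat.mul_dvd_mul hrK hrd
  have hr6 : r = 2 ∨ r = 3 := by
    have h19 : r ≤ 18 := by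
      by_contra h
      have : 19 * 19 ≤ r * r := Nat.mul_le_mul (by omega) (by omega)
      have := Nat.le_of_dvd (by norm_num) hsq
      omega
    have h2 := hr.two_le
    interval_cases r <;> (revert hr hsq; norm_num)
  rcases hr6 with rfl | rfl
  · -- the index is a power of two
    exfalso
    obtain ⟨a, ha⟩ : ∃ a, K.index = 2 ^ a :=
      ⟨_, Nat.eq_prime_pow_of_unique_prime_dvd Subgroup.index_ne_zero_of_finite fun {q} hq hd =>
        le_antisymm (hmax q hq hd) hq.two_le⟩
    rw [ha] at hmul
    have ha3 : a ≤ 3 := by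
      by_contra h
      have h16 : 2 ^ 4 ∣ 360 := (pow_dvd_pow 2 (show 4 ≤ a by omega)).trans (Dvd.intro_left _ hmul)
      norm_num at h16
    have hidx : K.index ≠ 1 := fun h => hK (Subgroup.index_eq_one.1 h)
    have hfac : 360 ∣ K.index.factorial := by
      haveI : IsSimpleGroup (alternatingGroup (Fin 6)) :=
        alternatingGroup.isSimpleGroup (by rw [Nat.card_fin]; norm_num)
      have hcore : K.normalCore = ⊥ :=
        ((Subgroup.normalCore_normal K).eq_bot_or_eq_top).resolve_right fun h =>
          hK (top_le_iff.1 (h.ge.trans K.normalCore_le))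
      rw [Subgroup.normalCore_eq_ker] at hcore
      have hinj := (MonoidHom.ker_eq_bot_iff _).1 hcore
      have h := Subgroup.card_dvd_of_injective _ hinj
      rwa [hcard, Nat.card_perm, ← Subgroup.index_eq_card] at h
    rw [ha] at hidx hfac
    interval_cases a
    · exact hidx rfl
    · exact absurd hfac (by decide)
    · exact absurd hfac (by decide)
    · -- a group of order 45
      have hK45 : Nat.card K = 45 := by omega
      haveI : Fact (Nat.Prime 5) := ⟨Nat.prime_five⟩
      haveI : Fact (Nat.Prime 3) := ⟨Nat.prime_three⟩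
      let P : Sylow 5 K := default
      have hPc : Nat.card (P : Subgroup K) = 5 := by
        rw [P.card_eq_multiplicity, hK45, show (45 : ℕ) = 9 * 5 from rfl,
          Nat.factorization_mul (by norm_num) (by norm_num), Finsupp.add_apply,
          Nat.Prime.factorization_self Nat.prime_five,
          Nat.factorization_eq_zero_of_not_dvd (show ¬ 5 ∣ 9 by norm_num)]
        rfl
      have hPi : (P : Subgroup K).index = 9 := by
        have := (P : Subgroup K).card_mul_index
        rw [hPc, hK45] at this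
        omega
      have h1 : Nat.card (Sylow 5 K) = 1 := by
        have h2 : Nat.card (Sylow 5 K) ∣ 9 := hPi ▸ P.card_dvd_index
        have h3 := card_sylow_modEq_one 5 K
        have h4 := Nat.le_of_dvd (by norm_num) h2
        interval_cases h : Nat.card (Sylow 5 K) <;> revert h2 h3 <;> decide
      haveI : Subsingleton (Sylow 5 K) := (Nat.card_eq_one_iff_unique.1 h1).1
      haveI : (P : Subgroup K).Normal := P.normal_of_subsingleton
      obtain ⟨y, hy⟩ := exists_prime_orderOf_dvd_card' (G := (P : Subgroup K)) 5 hPc.symm.dvd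
      obtain ⟨x, hx⟩ := exists_prime_orderOf_dvd_card' (G := K) 3 (by rw [hK45]; norm_num)
      haveI : IsCyclic (P : Subgroup K) := isCyclic_of_prime_card hPc
      have hφ : MulAut.conjNormal (H := (P : Subgroup K)) x = 1 := by
        rw [← orderOf_eq_one_iff]
        refine Nat.eq_one_of_dvd_coprimes (show Nat.Coprime 3 4 by norm_num)
          (hx ▸ orderOf_map_dvd _ x) ?_
        have h4 : Nat.card (MulAut (P : Subgroup K)) = 4 := by
          rw [IsCyclic.card_mulAut, hPc]; decide
        exact h4 ▸ orderOf_dvd_natCard _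
      have hcomm : Commute x (y : K) := by
        have h5 := congrArg (fun f : MulAut (P : Subgroup K) => ((f y : (P : Subgroup K)) : K)) hφ
        simp only [MulAut.conjNormal_apply, MulAut.one_apply] at h5
        exact mul_inv_eq_iff_eq_mul.1 h5
      have h15 : orderOf (x * (y : K)) = 15 := by
        rw [hcomm.orderOf_mul_eq_mul_orderOf_of_coprime (by rw [hx, Subgroup.orderOf_coe, hy]; norm_num),
          hx, Subgroup.orderOf_coe, hy]
      rw [← Subgroup.orderOf_coe, ← Subgroup.orderOf_coe] at h15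
      set z : Perm (Fin 6) := ((((x * (y : K)) : K) : alternatingGroup (Fin 6)) : Perm (Fin 6))
      have hsum : z.cycleType.sum ≤ 6 := by
        rw [sum_cycleType]
        exact (Finset.card_le_univ _).trans_eq (Fintype.card_fin 6)
      have hlcm : z.cycleType.lcm = 15 := by rw [lcm_cycleType, h15]
      have hmem : ∀ b ∈ z.cycleType, b = 3 ∨ b = 5 := fun b hb => by
        have h6 : b ∣ 15 := hlcm ▸ Multiset.dvd_lcm hb
        have h7 := two_le_of_mem_cycleType hb
        have h8 := (Multiset.single_le_sum (fun _ _ => Nat.zero_le _) b hb).trans hsum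
        interval_cases b <;> (revert h6; norm_num)
      have h3m : 3 ∈ z.cycleType := by
        by_contra h
        have : z.cycleType.lcm ∣ 5 := Multiset.lcm_dvd.2 fun b hb =>
          ((hmem b hb).resolve_left fun e => h (e ▸ hb)).dvd
        rw [hlcm] at this
        norm_num at this
      have h5m : 5 ∈ z.cycleType := by
        by_contra h
        have : z.cycleType.lcm ∣ 3 := Multiset.lcm_dvd.2 fun b hb =>
          ((hmem b hb).resolve_right fun e => h (e ▸ hb)).dvd
        rw [hlcm] at this
        norm_num at this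
      obtain ⟨u, hu⟩ := Multiset.exists_cons_of_mem h3m
      rw [hu, Multiset.mem_cons] at h5m
      rcases h5m with h | h
      · norm_num at h
      · have h9 := Multiset.single_le_sum (fun _ _ => Nat.zero_le _) 5 h
        rw [hu, Multiset.sum_cons] at hsum
        omega
  · -- two classes of elements of order three
    have h9 : ¬ 3 ^ 2 ∣ Nat.card K := fun h => by
      have : 3 ^ 2 * 3 ∣ 360 := hmul ▸ Nat.mul_dvd_mul h hrd
      norm_num at this
    have hfac : (Nat.card K).factorization 3 = 1 := by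
      refine le_antisymm ?_ (hr.factorization_pos_of_dvd Nat.card_pos.ne' hrK)
      by_contra h
      exact h9 ((hr.pow_dvd_iff_le_factorization Nat.card_pos.ne').2 (by omega))
    have key : ∀ x y : K, orderOf x = 3 → orderOf y = 3 →
        (((x : alternatingGroup (Fin 6)) : Perm (Fin 6))).cycleType =
          (((y : alternatingGroup (Fin 6)) : Perm (Fin 6))).cycleType := by
      intro x y hx hy
      have hX : Nat.card (Subgroup.zpowers x) = 3 ^ (Nat.card K).factorization 3 := by
        rw [hfac, Nat.card_zpowers, hx, pow_one]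
      have hY : Nat.card (Subgroup.zpowers y) = 3 ^ (Nat.card K).factorization 3 := by
        rw [hfac, Nat.card_zpowers, hy, pow_one]
      obtain ⟨g, hg⟩ := MulAction.exists_smul_eq K (Sylow.ofCard _ hX) (Sylow.ofCard _ hY)
      have hmem : y ∈ Subgroup.zpowers (g * x * g⁻¹) := by
        have h := congrArg (fun S : Sylow 3 K => (S : Subgroup K)) hg
        simp only [Sylow.coe_subgroup_smul, Sylow.coe_ofCard] at h
        have hy' : y ∈ Subgroup.zpowers y := Subgroup.mem_zpowers y
        rw [← h] at hy'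
        obtain ⟨_, ⟨i, rfl⟩, hi⟩ := hy'
        exact ⟨i, by rw [← hi]; simp [conj_zpow]⟩
      obtain ⟨i, hi⟩ := hmem
      simp only at hi
      rw [← zpow_mod_orderOf] at hi
      set z := g * x * g⁻¹ with hz
      have hzo : orderOf z = 3 := by
        rw [hz, ← MulAut.conj_apply, MulEquiv.orderOf_eq, hx]
      have hct : (((z : alternatingGroup (Fin 6)) : Perm (Fin 6))).cycleType =
          (((x : alternatingGroup (Fin 6)) : Perm (Fin 6))).cycleType := by
        simp only [hz, Subgroup.coe_mul, Subgroup.coe_inv, cycleType_conj]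
      rw [hzo] at hi
      have hi3 : i % 3 = 0 ∨ i % 3 = 1 ∨ i % 3 = 2 := by omega
      rcases hi3 with h | h | h <;> rw [Nat.cast_ofNat, h] at hi
      · rw [zpow_zero] at hi
        rw [← hi, orderOf_one] at hy
        norm_num at hy
      · rw [zpow_one] at hi
        rw [← hi, hct]
      · have h2 : z ^ (2 : ℤ) = z⁻¹ := by
          refine eq_inv_of_mul_eq_one_left ?_
          rw [← zpow_add_one]
          have := pow_orderOf_eq_one z
          rw [hzo] at this
          exact_mod_cast this
        rw [h2] at hi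
        rw [← hi]
        simp only [Subgroup.coe_inv, cycleType_inv, hct]
    obtain ⟨σ, hσ⟩ := (exists_with_cycleType_iff (Fin 6) (m := {3})).2 (by simp)
    obtain ⟨τ, hτ⟩ := (exists_with_cycleType_iff (Fin 6) (m := {3, 3})).2 (by simp)
    have hσA : σ ∈ alternatingGroup (Fin 6) := by
      rw [mem_alternatingGroup, sign_of_cycleType, hσ]; rfl
    have hτA : τ ∈ alternatingGroup (Fin 6) := by
      rw [mem_alternatingGroup, sign_of_cycleType, hτ]; rfl
    have hoσ : orderOf (⟨σ, hσA⟩ : alternatingGroup (Fin 6)) = 3 := by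
      rw [← Subgroup.orderOf_coe]
      show orderOf σ = 3
      rw [← lcm_cycleType, hσ]; rfl
    have hoτ : orderOf (⟨τ, hτA⟩ : alternatingGroup (Fin 6)) = 3 := by
      rw [← Subgroup.orderOf_coe]
      show orderOf τ = 3
      rw [← lcm_cycleType, hτ]; rfl
    by_contra hno
    push Not at hno
    obtain ⟨a, ha⟩ := hno _ hoσ
    obtain ⟨b, hb⟩ := hno _ hoτ
    have h := key ⟨_, ha⟩ ⟨_, hb⟩
      (orderOf_conj_mk K ha hoσ) (orderOf_conj_mk K hb hoτ)
    simp only [Subgroup.coe_mul, Subgroup.coe_inv, cycleType_conj, hσ, hτ] at h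
    exact absurd (congrArg Multiset.card h) (by decide)

/-- The derangement. -/
theorem exists_derangement {G Ω : Type*} [Group G] [Finite G] [MulAction G Ω] [Finite Ω]
    [FaithfulSMul G Ω] (T : Subgroup G) (hT : T.Normal)
    (hTc : Subgroup.centralizer (T : Set G) = ⊥) {m : ℕ} (hm : 5 ≤ m)
    (eT : T ≃* alternatingGroup (Fin m)) (hprim : IsPreprimitive G Ω) (hΩ : 2 ≤ Nat.card Ω) {r : ℕ}
    (hr : r.Prime) (hrd : r ∣ Nat.card Ω) (hmax : ∀ s : ℕ, s.Prime → s ∣ Nat.card Ω → s ≤ r) :
    ∃ g : G, orderOf g = r ∧ ∀ ω : Ω, g • ω ≠ ω := by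
  classical
  haveI := hprim
  haveI := hT
  haveI : Nontrivial Ω := Finite.one_lt_card_iff_nontrivial.1 hΩ
  obtain ⟨ω⟩ : Nonempty Ω := inferInstance
  set H := stabilizer G ω with hH
  have hHc : IsCoatom H := (isCoatom_stabilizer_iff_preprimitive G ω).2 hprim
  have hTH : ¬ T ≤ H := by
    intro hle
    have hTb : T = ⊥ := le_bot_iff.1 fun t ht => Subgroup.mem_bot.2 (eq_of_smul_eq_smul fun ω' : Ω => by
      obtain ⟨g, rfl⟩ := exists_smul_eq G ω ω'
      have h : (g⁻¹ * t * g) • ω = ω := hle (by simpa using hT.conj_mem t ht g⁻¹)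
      rw [mul_smul, mul_smul, inv_smul_eq_iff] at h
      rw [h, one_smul])
    have h2 : Nat.card (alternatingGroup (Fin m)) = 1 := by
      rw [← Nat.card_congr eT.toEquiv, hTb, Subgroup.card_bot]
    have h3 := two_mul_card_alt (m := m) (by omega)
    have h4 : Nat.factorial 3 ≤ m.factorial := Nat.factorial_le (by omega)
    rw [show Nat.factorial 3 = 6 from rfl] at h4
    omega
  have hsup : T ⊔ H = ⊤ := hHc.2 _ (lt_of_le_of_ne le_sup_right fun e => hTH (e ▸ le_sup_left))
  have htrT : ∀ ω' : Ω, ∃ t : T, (t : G) • ω = ω' := by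
    intro ω'
    obtain ⟨g, rfl⟩ := exists_smul_eq G ω ω'
    have hg : g ∈ ((T ⊔ H : Subgroup G) : Set G) := by rw [hsup]; trivial
    rw [Subgroup.normal_mul] at hg
    obtain ⟨t, ht, h, hh, rfl⟩ := hg
    exact ⟨⟨t, ht⟩, by rw [mul_smul, (hh : h • ω = ω)]⟩
  set K := (H.subgroupOf T).map (eT : T →* alternatingGroup (Fin m)) with hK
  have hKidx : K.index = Nat.card Ω := by
    rw [hK, Subgroup.index_map_equiv]
    haveI : IsPretransitive T Ω := ⟨fun a b => by
      obtain ⟨s, rfl⟩ := htrT a
      obtain ⟨t, rfl⟩ := htrT b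
      exact ⟨t * s⁻¹, by simp [Subgroup.smul_def, mul_smul]⟩⟩
    rw [show H.subgroupOf T = stabilizer T ω from rfl, index_stabilizer_of_transitive]
  suffices h : ∃ x : alternatingGroup (Fin m), orderOf x = r ∧ ∀ a, a * x * a⁻¹ ∉ K by
    obtain ⟨x, hx, hxK⟩ := h
    refine ⟨(eT.symm x : G), by rw [Subgroup.orderOf_coe, MulEquiv.orderOf_eq, hx], fun ω' hfix => ?_⟩
    obtain ⟨t, rfl⟩ := htrT ω'
    refine hxK (eT t⁻¹) ⟨t⁻¹ * eT.symm x * t, ?_, by simp⟩
    show ((t : G)⁻¹ * (eT.symm x : G) * (t : G)) • ω = ω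
    rw [mul_smul, mul_smul, hfix, inv_smul_smul]
  by_cases h6 : m = 6
  · subst h6
    exact avoid_six K (fun h => by rw [h, Subgroup.index_top] at hKidx; omega) hr (hKidx ▸ hrd)
      (fun p hp hd => hmax p hp (hKidx ▸ hd))
  have hbij := AltAut.conjNormal_bijective (α := Fin m) (by rw [Fintype.card_fin]; omega)
    (by rw [Fintype.card_fin]; exact h6)
  let e := MulEquiv.ofBijective _ hbij
  let ψ : G →* MulAut (alternatingGroup (Fin m)) :=
    (MulAut.congr eT).toMonoidHom.comp MulAut.conjNormal
  let Φ : G →* Perm (Fin m) := e.symm.toMonoidHom.comp ψ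
  have hΦi : Function.Injective Φ := by
    refine e.symm.injective.comp ((MulAut.congr eT).injective.comp ?_)
    refine (injective_iff_map_eq_one (MulAut.conjNormal : G →* MulAut T)).2 fun g hg => ?_
    have : g ∈ Subgroup.centralizer (T : Set G) := Subgroup.mem_centralizer_iff.2 fun t ht => by
      have h := congrArg (fun f : MulAut T => ((f ⟨t, ht⟩ : T) : G)) hg
      simp only [MulAut.conjNormal_apply, MulAut.one_apply] at h
      exact (mul_inv_eq_iff_eq_mul.1 h).symm
    rwa [hTc, Subgroup.mem_bot] at this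
  have hΦT : ∀ t : T, Φ (t : G) = (eT t : Perm (Fin m)) := by
    intro t
    refine e.injective ?_
    show e (e.symm (ψ (t : G))) = MulAut.conjNormal (eT t : Perm (Fin m))
    rw [e.apply_symm_apply]
    refine MulEquiv.ext fun a => Subtype.ext ?_
    rw [MulAut.conjNormal_apply]
    show ((eT (MulAut.conjNormal (t : G) (eT.symm a)) : alternatingGroup (Fin m)) : Perm (Fin m)) = _
    rw [show MulAut.conjNormal (t : G) (eT.symm a) = t * eT.symm a * t⁻¹ from
      Subtype.ext (MulAut.conjNormal_apply _ _)]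
    simp
  have hAL : (alternatingGroup (Fin m)) ≤ Φ.range := fun a ha =>
    ⟨(eT.symm ⟨a, ha⟩ : G), by rw [hΦT, eT.apply_symm_apply]⟩
  have hMA : H.map Φ ⊓ (alternatingGroup (Fin m)) = K.map (alternatingGroup (Fin m)).subtype := by
    ext a
    constructor
    · rintro ⟨⟨h, hh, rfl⟩, ha⟩
      have e1 : Φ (eT.symm ⟨Φ h, ha⟩ : G) = Φ h := by rw [hΦT, eT.apply_symm_apply]
      refine ⟨⟨Φ h, ha⟩, ⟨eT.symm ⟨Φ h, ha⟩, ?_, eT.apply_symm_apply _⟩, rfl⟩
      show (eT.symm ⟨Φ h, ha⟩ : G) ∈ H
      rw [hΦi e1]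
      exact hh
    · rintro ⟨_, ⟨t, ht, rfl⟩, rfl⟩
      exact ⟨⟨t, ht, hΦT t⟩, (eT t).2⟩
  have hnot : ¬ (alternatingGroup (Fin m)) ≤ H.map Φ := by
    intro h
    refine hTH fun t ht => ?_
    obtain ⟨g, hg, hgt⟩ := h (eT ⟨t, ht⟩).2
    rw [← hΦT ⟨t, ht⟩] at hgt
    have hg' := hΦi hgt
    rw [hg'] at hg
    exact hg
  obtain ⟨σ, hσA, hσo, hσ⟩ := avoids hm hAL (Subgroup.map_le_range _ H) (fun K' h1 h2 => by
      have hHK : H ≤ K'.comap Φ := Subgroup.map_le_iff_le_comap.1 h1
      rcases hHK.eq_or_lt with h | h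
      · left; rw [h, Subgroup.map_comap_eq, inf_eq_right.2 h2]
      · right; refine le_antisymm h2 ?_
        rw [MonoidHom.range_eq_map, ← hHc.2 _ h, Subgroup.map_comap_eq]
        exact inf_le_right) hnot (n := K.index) hr (hKidx ▸ hrd) (by
      rw [hMA, Subgroup.card_map_of_injective (alternatingGroup (Fin m)).subtype_injective, mul_comm, K.card_mul_index])
    (fun p hp hd => hmax p hp (hKidx ▸ hd))
  refine ⟨⟨σ, hσA⟩, by rw [← hσo, ← Subgroup.orderOf_coe], fun a ha => hσ a a.2 ?_⟩
  exact (hMA.ge ⟨_, ha, rfl⟩).1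

end Cfsg.Agent.Block.AltDerange
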